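import Mathlib.CategoryTheory.Limits.Indization.IndObject
import Mathlib.CategoryTheory.Functor.KanExtension.Adjunction
import Mathlib.CategoryTheory.Limits.Types.Filtered
import Mathlib.CategoryTheory.Limits.FunctorCategory.Basic
import Mathlib.CategoryTheory.Yoneda

/-!
# Left Kan extension of presheaves along a functor, on ind-objects
-/

set_option autoImplicit false

universe u

open CategoryTheory CategoryTheory.Limits Opposite

namespace Groth.Agent.SGA4Ind

variable {C : Type u} [SmallCategory C] {C' : Type u} [SmallCategory C'] (v : C ⥤ C')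

noncomputable abbrev restr : (C'ᵒᵖ ⥤ Type u) ⥤ (Cᵒᵖ ⥤ Type u) :=
  (Functor.whiskeringLeft Cᵒᵖ C'ᵒᵖ (Type u)).obj v.op

/-- The map induced on representables. -/
def mapYoneda (Y : C) : yoneda.obj Y ⟶ (restr v).obj (yoneda.obj (v.obj Y)) where
  app U := ↾(fun g => v.map g)
  naturality U U' f := by
    ext g
    exact v.map_comp _ _

theorem exists_equiv_unit (Y : C) :
    ∃ e : v.op.lan.obj (yoneda.obj Y) ≅ yoneda.obj (v.obj Y),
      (v.op.lanAdjunction (Type u)).unit.app (yoneda.obj Y) ≫ (restr v).map e.hom = mapYoneda v Y := by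
  let adj := v.op.lanAdjunction (Type u)
  let a := (adj.homEquiv _ _).symm (mapYoneda v Y)
  have ha : adj.unit.app (yoneda.obj Y) ≫ (restr v).map a = mapYoneda v Y :=
    (adj.homEquiv_unit _ _ _).symm.trans (Equiv.apply_symm_apply _ _)
  let b : yoneda.obj (v.obj Y) ⟶ v.op.lan.obj (yoneda.obj Y) :=
    yonedaEquiv.symm ((adj.unit.app (yoneda.obj Y)).app (op Y) (𝟙 Y))
  refine ⟨⟨a, b, ?_, ?_⟩, ha⟩
  · apply (adj.homEquiv _ _).injective
    rw [Adjunction.homEquiv_unit, Adjunction.homEquiv_unit, Functor.map_comp, reassoc_of% ha,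
      CategoryTheory.Functor.map_id]
    refine Eq.trans ?_ (Category.comp_id _).symm
    apply yonedaEquiv.injective
    change b.app (op (v.obj Y)) (v.map (𝟙 Y)) = (adj.unit.app (yoneda.obj Y)).app (op Y) (𝟙 Y)
    rw [v.map_id]
    exact yonedaEquiv.apply_symm_apply _
  · apply yonedaEquiv.injective
    change a.app (op (v.obj Y)) (b.app (op (v.obj Y)) (𝟙 _)) = 𝟙 _
    refine (congrArg (a.app (op (v.obj Y))) (yonedaEquiv.apply_symm_apply _)).trans ?_
    refine (ConcreteCategory.congr_hom (NatTrans.congr_app ha (op Y)) (𝟙 Y)).trans ?_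
    exact v.map_id Y

/-- The effect of `v_!` on a morphism, through the adjunction. -/
theorem homEquiv_lan_map {F G : Cᵒᵖ ⥤ Type u} (φ : F ⟶ G) :
    (v.op.lanAdjunction (Type u)).homEquiv _ _ (v.op.lan.map φ) =
      φ ≫ (v.op.lanAdjunction (Type u)).unit.app G := by
  rw [Adjunction.homEquiv_unit]
  exact ((v.op.lanAdjunction (Type u)).unit.naturality φ).symm

theorem injective_map_iff_unit {F G : Cᵒᵖ ⥤ Type u} :
    Function.Injective (fun φ : F ⟶ G => v.op.lan.map φ) ↔
      Function.Injective (fun φ : F ⟶ G => φ ≫ (v.op.lanAdjunction (Type u)).unit.app G) := by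
  simp_rw [← homEquiv_lan_map]
  exact ((((v.op.lanAdjunction (Type u)).homEquiv _ _).injective.of_comp_iff _)).symm

theorem bijective_map_iff_unit {F G : Cᵒᵖ ⥤ Type u} :
    Function.Bijective (fun φ : F ⟶ G => v.op.lan.map φ) ↔
      Function.Bijective (fun φ : F ⟶ G => φ ≫ (v.op.lanAdjunction (Type u)).unit.app G) := by
  simp_rw [← homEquiv_lan_map]
  exact ((((v.op.lanAdjunction (Type u)).homEquiv _ _).bijective.of_comp_iff' _)).symm

theorem unit_app_injective_iff (X Y : C) :
    Function.Injective (((v.op.lanAdjunction (Type u)).unit.app (yoneda.obj Y)).app (op X)) ↔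
      Function.Injective (fun g : X ⟶ Y => v.map g) := by
  obtain ⟨e, he⟩ := exists_equiv_unit v Y
  rw [← Function.Injective.of_comp_iff ((e.app (op (v.obj X))).toEquiv.injective)]
  exact iff_of_eq (congrArg Function.Injective
    (funext fun g => ConcreteCategory.congr_hom (NatTrans.congr_app he (op X)) g))

theorem unit_app_bijective_iff (X Y : C) :
    Function.Bijective (((v.op.lanAdjunction (Type u)).unit.app (yoneda.obj Y)).app (op X)) ↔
      Function.Bijective (fun g : X ⟶ Y => v.map g) := by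
  obtain ⟨e, he⟩ := exists_equiv_unit v Y
  rw [← Function.Bijective.of_comp_iff' ((e.app (op (v.obj X))).toEquiv.bijective)]
  exact iff_of_eq (congrArg Function.Bijective
    (funext fun g => ConcreteCategory.congr_hom (NatTrans.congr_app he (op X)) g))

theorem unit_injective_of_ind {G : Cᵒᵖ ⥤ Type u} (hG : IsIndObject G)
    (h : ∀ X Y : C, Function.Injective (fun g : X ⟶ Y => v.map g)) (U : Cᵒᵖ) :
    Function.Injective (((v.op.lanAdjunction (Type u)).unit.app G).app U) := by
  obtain ⟨P⟩ := hG.nonempty_presentation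
  let η := (v.op.lanAdjunction (Type u)).unit
  let Φ : (Cᵒᵖ ⥤ Type u) ⥤ Type u := (evaluation Cᵒᵖ (Type u)).obj U
  let Ψ : (Cᵒᵖ ⥤ Type u) ⥤ Type u := v.op.lan ⋙ restr v ⋙ Φ
  have hlan : PreservesColimitsOfSize.{u, u} (v.op.lan : (Cᵒᵖ ⥤ Type u) ⥤ _) :=
    (v.op.lanAdjunction (Type u)).leftAdjoint_preservesColimits
  have h₁ := isColimitOfPreserves Φ P.coconeIsColimit
  have h₂ := isColimitOfPreserves Ψ P.coconeIsColimit
  intro x y hxy
  obtain ⟨i, x, y, rfl, rfl⟩ := Types.FilteredColimit.jointly_surjective_of_isColimit₂ h₁ x y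
  have hn : ∀ z, (η.app G).app U ((P.cocone.ι.app i).app U z) =
      ((v.op.lan.map (P.cocone.ι.app i)).app (v.op.obj U)) ((η.app (yoneda.obj (P.F.obj i))).app U z) :=
    fun z => ConcreteCategory.congr_hom (NatTrans.congr_app (η.naturality (P.cocone.ι.app i)) U) z
  have hxy' := (hn x).symm.trans (hxy.trans (hn y))
  obtain ⟨j, m, hj⟩ := (Types.FilteredColimit.isColimit_eq_iff' h₂
    ((η.app (yoneda.obj (P.F.obj i))).app U x) ((η.app (yoneda.obj (P.F.obj i))).app U y)).1 hxy'
  refine (Types.FilteredColimit.isColimit_eq_iff' h₁ x y).2 ⟨j, m, ?_⟩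
  have hm : ∀ z, (η.app (yoneda.obj (P.F.obj j))).app U ((yoneda.map (P.F.map m)).app U z) =
      ((v.op.lan.map (yoneda.map (P.F.map m))).app (v.op.obj U)) ((η.app (yoneda.obj (P.F.obj i))).app U z) :=
    fun z => ConcreteCategory.congr_hom (NatTrans.congr_app (η.naturality (yoneda.map (P.F.map m))) U) z
  exact (unit_app_injective_iff v U.unop (P.F.obj j)).2 (h _ _) ((hm x).trans (hj.trans (hm y).symm))

theorem unit_surjective_of_ind {G : Cᵒᵖ ⥤ Type u} (hG : IsIndObject G)
    (h : ∀ X Y : C, Function.Surjective (fun g : X ⟶ Y => v.map g))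
    (h' : ∀ X Y : C, Function.Injective (fun g : X ⟶ Y => v.map g)) (U : Cᵒᵖ) :
    Function.Surjective (((v.op.lanAdjunction (Type u)).unit.app G).app U) := by
  obtain ⟨P⟩ := hG.nonempty_presentation
  let η := (v.op.lanAdjunction (Type u)).unit
  let Ψ : (Cᵒᵖ ⥤ Type u) ⥤ Type u := v.op.lan ⋙ restr v ⋙ (evaluation Cᵒᵖ (Type u)).obj U
  have hlan : PreservesColimitsOfSize.{u, u} (v.op.lan : (Cᵒᵖ ⥤ Type u) ⥤ _) :=
    (v.op.lanAdjunction (Type u)).leftAdjoint_preservesColimits
  intro z
  obtain ⟨i, z, rfl⟩ := Types.jointly_surjective_of_isColimit (isColimitOfPreserves Ψ P.coconeIsColimit) z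
  obtain ⟨w, rfl⟩ := ((unit_app_bijective_iff v U.unop (P.F.obj i)).2 ⟨h' _ _, h _ _⟩).2 z
  exact ⟨(P.cocone.ι.app i).app U w,
    ConcreteCategory.congr_hom (NatTrans.congr_app (η.naturality (P.cocone.ι.app i)) U) w⟩

theorem faithful_iff :
    v.Faithful ↔ ∀ (F G : Cᵒᵖ ⥤ Type u), IsIndObject F → IsIndObject G →
      Function.Injective (fun φ : F ⟶ G => (v.op.lan : (Cᵒᵖ ⥤ Type u) ⥤ (C'ᵒᵖ ⥤ Type u)).map φ) := by
  constructor
  · intro _ F G _ hG
    rw [injective_map_iff_unit]
    intro φ ψ h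
    ext U x
    exact unit_injective_of_ind v hG (fun X Y => v.map_injective) U
      (ConcreteCategory.congr_hom (NatTrans.congr_app h U) x)
  · refine fun h => ⟨fun {X Y} f g hfg => yoneda.map_injective ?_⟩
    have := (injective_map_iff_unit v).1 (h _ _ (isIndObject_yoneda X) (isIndObject_yoneda Y))
    refine this ?_
    apply yonedaEquiv.injective
    obtain ⟨e, he⟩ := exists_equiv_unit v Y
    refine (e.app (op (v.obj X))).toEquiv.injective ?_
    refine (ConcreteCategory.congr_hom (NatTrans.congr_app he (op X)) (show X ⟶ Y from 𝟙 X ≫ f)).trans ?_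
    refine Eq.trans ?_ (ConcreteCategory.congr_hom (NatTrans.congr_app he (op X)) (show X ⟶ Y from 𝟙 X ≫ g)).symm
    change v.map (𝟙 X ≫ f) = v.map (𝟙 X ≫ g)
    rw [Category.id_comp, Category.id_comp, hfg]

theorem fullyFaithful_iff :
    (v.Full ∧ v.Faithful) ↔ ∀ (F G : Cᵒᵖ ⥤ Type u), IsIndObject F → IsIndObject G →
      Function.Bijective (fun φ : F ⟶ G => (v.op.lan : (Cᵒᵖ ⥤ Type u) ⥤ (C'ᵒᵖ ⥤ Type u)).map φ) := by
  constructor
  · rintro ⟨hfull, hfaith⟩ F G _ hG
    rw [bijective_map_iff_unit]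
    have : ∀ U, IsIso (((v.op.lanAdjunction (Type u)).unit.app G).app U) := fun U =>
      (isIso_iff_bijective _).2 ⟨unit_injective_of_ind v hG (fun X Y => v.map_injective) U,
        unit_surjective_of_ind v hG (fun X Y => v.map_surjective) (fun X Y => v.map_injective) U⟩
    have : IsIso ((v.op.lanAdjunction (Type u)).unit.app G) := NatIso.isIso_of_isIso_app _
    exact ⟨fun a b h => (cancel_mono _).1 h,
      fun c => ⟨c ≫ inv ((v.op.lanAdjunction (Type u)).unit.app G), by simp⟩⟩
  · intro h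
    have hf : v.Faithful := (faithful_iff v).2 fun F G hF hG => (h F G hF hG).1
    refine ⟨⟨fun {X Y} c => ?_⟩, hf⟩
    obtain ⟨e, he⟩ := exists_equiv_unit v Y
    obtain ⟨φ, hφ⟩ := ((bijective_map_iff_unit v).1 (h _ _ (isIndObject_yoneda X) (isIndObject_yoneda Y))).2
      (yonedaEquiv.symm ((e.app (op (v.obj X))).inv c))
    refine ⟨yonedaEquiv φ, ?_⟩
    refine (ConcreteCategory.congr_hom (NatTrans.congr_app he (op X)) (yonedaEquiv φ)).symm.trans ?_
    refine (congrArg (e.hom.app (op (v.obj X))) ?_).trans ((e.app (op (v.obj X))).toEquiv.apply_symm_apply c)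
    exact (congrArg yonedaEquiv hφ).trans (yonedaEquiv.apply_symm_apply _)

end Groth.Agent.SGA4Ind
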